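import Cfsg.Agent.BlocksChars.AltVanish.Moments
import Cfsg.Agent.Lib.Characters.Induction
import Cfsg.Agent.Lib.Characters.Schur

/-!
# Three irreducible characters of four-transitive groups
-/

set_option autoImplicit false
set_option linter.style.haveILetI false

namespace Cfsg.Agent.BlocksChars.AltVanish

open MulAction Finset
open Cfsg.Agent.Characters

universe u v

variable (G : Type u) [Group G] (α : Type v) [MulAction G α] [Fintype α] [DecidableEq α]

/-- The natural character less one. -/
def chiA : G → ℂ := fun g => ((fixSet (α := α) g).card : ℂ) - 1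

/-- The character of `(n - 2, 2)`. -/
noncomputable def chiB : G → ℂ := fun g =>
  (((fixSet (α := α) g).card : ℂ) ^ 2 - 3 * (fixSet (α := α) g).card + (swapSet (α := α) g).card) / 2

/-- The character of `(n - 2, 1, 1)`. -/
noncomputable def chiC : G → ℂ := fun g =>
  (((fixSet (α := α) g).card : ℂ) ^ 2 - 3 * (fixSet (α := α) g).card + 2 -
    (swapSet (α := α) g).card) / 2

/-- The action on unordered pairs. -/
def symHom : G →* Equiv.Perm (Sym2 α) where
  toFun g :=
    { toFun := Sym2.map (g • ·)
      invFun := Sym2.map (g⁻¹ • ·)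
      left_inv := fun z => by induction z using Sym2.ind with | _ a b => simp
      right_inv := fun z => by induction z using Sym2.ind with | _ a b => simp }
  map_one' := Equiv.ext fun z => by induction z using Sym2.ind with | _ a b => simp
  map_mul' g h := Equiv.ext fun z => by induction z using Sym2.ind with | _ a b => simp [mul_smul]

variable {G α}

/-- Fixed unordered pairs. -/
theorem two_mul_card_fixed_sym2 (g : G) :
    2 * (univ.filter fun z : Sym2 α => Sym2.map (g • ·) z = z).card =
      (fixSet (α := α) g).card ^ 2 + ((fixSet (α := α) g).card + (swapSet (α := α) g).card) := by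
  classical
  set f := (fixSet (α := α) g) with hf
  set S := univ.filter fun z : Sym2 α => Sym2.map (g • ·) z = z
  set T := univ.filter fun x : α × α => Sym2.map (g • ·) s(x.1, x.2) = s(x.1, x.2) with hTdef
  -- ordered pairs
  have hT : T.card + f.card = f.card ^ 2 + (f.card + (swapSet (α := α) g).card) := by
    set A := f ×ˢ f
    set E := (univ.filter fun x : α => g • g • x = x) with hE
    set B := E.image (fun x : α => (x, g • x)) with hB
    have hBc : B.card = f.card + (swapSet (α := α) g).card := by
      rw [hB, card_image_of_injective _ fun a b h => congrArg Prod.fst h,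
        ← card_filter_add_card_filter_not (s := E) (fun x => g • x = x)]
      congr 1
      · refine congrArg card ?_
        ext x
        simp only [hE, hf, mem_filter, mem_univ, true_and, mem_fixSet]
        exact ⟨fun h => h.2, fun h => ⟨by rw [h, h], h⟩⟩
      · refine congrArg card ?_
        ext x
        simp [hE, mem_swapSet]
    have hu : T = A ∪ B := by
      ext ⟨x, y⟩
      simp only [hTdef, A, hB, hE, hf, mem_union, mem_product, mem_filter, mem_univ, true_and,
        mem_image, mem_fixSet, Sym2.map_mk, Sym2.eq_iff, Prod.mk.injEq]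
      constructor
      · rintro (h | ⟨h1, h2⟩)
        · exact Or.inl h
        · exact Or.inr ⟨x, by rw [h1, h2], rfl, h1⟩
      · rintro (h | ⟨z, hz, rfl, rfl⟩)
        · exact Or.inl h
        · exact Or.inr ⟨rfl, hz⟩
    have hi : (A ∩ B).card = f.card := by
      rw [show A ∩ B = f.image (fun x => (x, x)) from ?_,
        card_image_of_injective _ fun a b h => congrArg Prod.fst h]
      ext ⟨x, y⟩
      simp only [A, hB, hE, hf, mem_inter, mem_product, mem_filter, mem_univ, true_and, mem_image,
        mem_fixSet, Prod.mk.injEq]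
      constructor
      · rintro ⟨⟨hx, -⟩, z, -, rfl, rfl⟩
        exact ⟨z, hx, rfl, hx.symm⟩
      · rintro ⟨z, hz, rfl, rfl⟩
        exact ⟨⟨hz, hz⟩, z, by rw [hz, hz], rfl, hz⟩
    have h1 := card_union_add_card_inter A B
    rw [← hu, hi, hBc, card_product] at h1
    rw [h1, sq]
  -- the fibres
  have hS : T.card + f.card = 2 * S.card := by
    have hmap : ∀ x ∈ T, Sym2.mk x.1 x.2 ∈ S := fun x hx => by
      simpa [S, hTdef] using hx
    rw [card_eq_sum_card_fiberwise hmap,
      show f.card = ∑ z ∈ S, if z.IsDiag then 1 else 0 from ?_, ← sum_add_distrib,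
      sum_congr rfl (g := fun _ => 2) fun z hz => ?_, sum_const, smul_eq_mul, mul_comm]
    · induction z using Sym2.ind with
      | _ a b =>
        have hz' : Sym2.map (g • ·) s(a, b) = s(a, b) := by simpa [S] using hz
        by_cases hab : a = b
        · subst hab
          rw [if_pos (Sym2.isDiag_iff_proj_eq.2 rfl)]
          have e : (T.filter fun x : α × α => Sym2.mk x.1 x.2 = s(a, a)) = {(a, a)} := by
            ext ⟨x, y⟩
            simp only [hTdef, mem_filter, mem_univ, true_and, mem_singleton, Prod.mk.injEq]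
            constructor
            · rintro ⟨-, h⟩
              simpa using h
            · rintro ⟨rfl, rfl⟩
              exact ⟨hz', rfl⟩
          rw [e, card_singleton]
        · rw [if_neg (fun h => hab (Sym2.isDiag_iff_proj_eq.1 h))]
          have e : (T.filter fun x : α × α => Sym2.mk x.1 x.2 = s(a, b)) = {(a, b), (b, a)} := by
            ext ⟨x, y⟩
            simp only [hTdef, mem_filter, mem_univ, true_and, mem_insert, mem_singleton, Prod.mk.injEq,
              Sym2.eq_iff]
            constructor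
            · rintro ⟨-, h⟩
              exact h
            · rintro (⟨rfl, rfl⟩ | ⟨rfl, rfl⟩)
              · exact ⟨hz', Or.inl ⟨rfl, rfl⟩⟩
              · exact ⟨by rwa [Sym2.eq_swap], Or.inr ⟨rfl, rfl⟩⟩
          rw [e, card_pair (by simp [hab])]
    · rw [← card_filter, show (S.filter fun z => z.IsDiag) = f.image Sym2.diag from ?_,
        card_image_of_injective _ Sym2.diag_injective]
      ext z
      induction z using Sym2.ind with
      | _ a b =>
        simp only [S, hf, mem_filter, mem_univ, true_and, mem_image, mem_fixSet, Sym2.map_mk,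
          Sym2.isDiag_iff_proj_eq, Sym2.diag, Sym2.eq_iff]
        constructor
        · rintro ⟨h, rfl⟩
          exact ⟨a, by rcases h with h | h <;> exact h.1, Or.inl ⟨rfl, rfl⟩⟩
        · rintro ⟨c, hc, ⟨rfl, rfl⟩ | ⟨rfl, rfl⟩⟩ <;> exact ⟨Or.inl ⟨hc, hc⟩, rfl⟩
  omega

section Gen

variable (G α) [Finite G]

theorem isGen_fix : Cfsg.IsGeneralizedCharacter G (fun g => ((fixSet (α := α) g).card : ℂ)) := by
  have e : (fun g : G => ((fixSet (α := α) g).card : ℂ)) =
      fun g => (Nat.card (fixedBy α g) : ℂ) := funext fun g => by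
    rw [Nat.card_eq_card_toFinset]
    congr 2
    ext x
    simp [mem_fixSet]
  rw [e]
  exact isGen_of_isCharacter (isCharacter_permChar α)

theorem isGen_sym : Cfsg.IsGeneralizedCharacter G (fun g =>
    ((univ.filter fun z : Sym2 α => Sym2.map (g • ·) z = z).card : ℂ)) := by
  letI : MulAction G (Sym2 α) := MulAction.compHom (Sym2 α) (symHom G α)
  have e : (fun g : G => ((univ.filter fun z : Sym2 α => Sym2.map (g • ·) z = z).card : ℂ)) =
      fun g => (Nat.card (fixedBy (Sym2 α) g) : ℂ) := funext fun g => by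
    rw [Nat.card_eq_card_toFinset]
    congr 2
    ext x
    simp only [mem_filter, mem_univ, true_and, Set.mem_toFinset, mem_fixedBy]
    rfl
  rw [e]
  exact isGen_of_isCharacter (isCharacter_permChar (Sym2 α))

theorem isGen_const : Cfsg.IsGeneralizedCharacter G (fun _ => (1 : ℂ)) :=
  isGen_of_isCharacter isCharacter_one

theorem isGen_chiA : Cfsg.IsGeneralizedCharacter G (chiA G α) :=
  isGen_sub (isGen_fix G α) (isGen_const G)

theorem sym_eq (g : G) : (2 : ℂ) * ((univ.filter fun z : Sym2 α => Sym2.map (g • ·) z = z).card : ℂ) =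
    ((fixSet (α := α) g).card : ℂ) ^ 2 +
      (((fixSet (α := α) g).card : ℂ) + (swapSet (α := α) g).card) := by
  exact_mod_cast two_mul_card_fixed_sym2 g

theorem isGen_chiB : Cfsg.IsGeneralizedCharacter G (chiB G α) := by
  have h := isGen_sub (isGen_sub (isGen_sym G α) (isGen_fix G α)) (isGen_fix G α)
  refine (congrArg (Cfsg.IsGeneralizedCharacter G) (funext fun g => ?_)).mp h
  simp only [Pi.sub_apply, chiB]
  linear_combination (1 / 2 : ℂ) * sym_eq G α g

theorem isGen_chiC : Cfsg.IsGeneralizedCharacter G (chiC G α) := by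
  have h := isGen_add (isGen_sub (isGen_sub (isGen_mul (isGen_fix G α) (isGen_fix G α))
    (isGen_sym G α)) (isGen_fix G α)) (isGen_const G)
  refine (congrArg (Cfsg.IsGeneralizedCharacter G) (funext fun g => ?_)).mp h
  simp only [Pi.sub_apply, Pi.add_apply, Pi.mul_apply, chiC]
  linear_combination -(1 / 2 : ℂ) * sym_eq G α g

end Gen

section Irr

variable [Fintype G]

theorem norm_eq_one {χ : G → ℂ} (hreal : ∀ g, (starRingEnd ℂ) (χ g) = χ g)
    (h : ∑ g, χ g ^ 2 = Nat.card G) : Cfsg.classInner χ χ = 1 := by
  rw [classInner_def, Finset.sum_congr rfl fun g _ => show χ g * (starRingEnd ℂ) (χ g) = χ g ^ 2 by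
    rw [hreal, sq], h, inv_mul_cancel₀ natCard_ne_zero]

variable (h4 : IsMultiplyPretransitive G α 4) (hn : 4 ≤ Fintype.card α)
include h4 hn

theorem isIrr_chiA : Cfsg.IsIrrCharacter G (chiA G α) := by
  obtain ⟨e1, e2, -⟩ := moments h4 hn
  refine isIrr_of_gen_norm_one (isGen_chiA G α) (norm_eq_one (fun g => ?_) ?_) ?_
  · simp [chiA]
  · rw [sum_congr rfl (g := fun g => ((fixSet (α := α) g).card : ℂ) ^ 2 -
      2 * ((fixSet (α := α) g).card : ℂ) + 1) fun g _ => by simp only [chiA]; ring, sum_add_distrib,
      sum_sub_distrib, ← mul_sum, e2, e1, sum_const, card_univ, nsmul_eq_mul, mul_one,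
      ← Nat.card_eq_fintype_card]
    ring
  · have h1 : (fixSet (α := α) (1 : G)) = univ := by ext x; simp [mem_fixSet]
    simp only [chiA, h1, card_univ, Complex.sub_re, Complex.natCast_re, Complex.one_re, sub_pos]
    exact_mod_cast (by omega : 1 < Fintype.card α)

theorem isIrr_chiB : Cfsg.IsIrrCharacter G (chiB G α) := by
  obtain ⟨e1, e2, e3, e4, u0, u1, u2, uu⟩ := moments h4 hn
  refine isIrr_of_gen_norm_one (isGen_chiB G α) (norm_eq_one (fun g => ?_) ?_) ?_
  · simp [chiB, map_ofNat]
  · rw [sum_congr rfl (g := fun g => (1 / 4 : ℂ) * ((fixSet (α := α) g).card : ℂ) ^ 4 -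
      (3 / 2) * ((fixSet (α := α) g).card : ℂ) ^ 3 + (9 / 4) * ((fixSet (α := α) g).card : ℂ) ^ 2 +
      (1 / 2) * (((swapSet (α := α) g).card : ℂ) * ((fixSet (α := α) g).card : ℂ) ^ 2) -
      (3 / 2) * (((swapSet (α := α) g).card : ℂ) * (fixSet (α := α) g).card) +
      (1 / 4) * ((swapSet (α := α) g).card : ℂ) ^ 2) fun g _ => by simp only [chiB]; ring]
    simp only [sum_add_distrib, sum_sub_distrib, ← mul_sum, e2, e3, e4, u1, u2, uu]
    ring
  · have h1 : (fixSet (α := α) (1 : G)) = univ := by ext x; simp [mem_fixSet]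
    have h2 : (swapSet (α := α) (1 : G)) = ∅ := by ext x; simp [mem_swapSet]
    simp only [chiB, h1, h2, card_univ, card_empty, Nat.cast_zero, add_zero]
    rw [show ((Fintype.card α : ℂ) ^ 2 - 3 * Fintype.card α) / 2 =
      ((((Fintype.card α : ℝ) ^ 2 - 3 * Fintype.card α) / 2 : ℝ) : ℂ) by push_cast; rfl,
      Complex.ofReal_re]
    have : (4 : ℝ) ≤ Fintype.card α := by exact_mod_cast hn
    nlinarith

theorem isIrr_chiC : Cfsg.IsIrrCharacter G (chiC G α) := by
  obtain ⟨e1, e2, e3, e4, u0, u1, u2, uu⟩ := moments h4 hn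
  refine isIrr_of_gen_norm_one (isGen_chiC G α) (norm_eq_one (fun g => ?_) ?_) ?_
  · simp [chiC, map_ofNat]
  · rw [sum_congr rfl (g := fun g => (1 / 4 : ℂ) * ((fixSet (α := α) g).card : ℂ) ^ 4 -
      (3 / 2) * ((fixSet (α := α) g).card : ℂ) ^ 3 + (13 / 4) * ((fixSet (α := α) g).card : ℂ) ^ 2 -
      3 * ((fixSet (α := α) g).card : ℂ) + 1 -
      (1 / 2) * (((swapSet (α := α) g).card : ℂ) * ((fixSet (α := α) g).card : ℂ) ^ 2) +
      (3 / 2) * (((swapSet (α := α) g).card : ℂ) * (fixSet (α := α) g).card) -
      ((swapSet (α := α) g).card : ℂ) +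
      (1 / 4) * ((swapSet (α := α) g).card : ℂ) ^ 2) fun g _ => by simp only [chiC]; ring]
    simp only [sum_add_distrib, sum_sub_distrib, ← mul_sum, e1, e2, e3, e4, u0, u1, u2, uu,
      sum_const, card_univ, nsmul_eq_mul, mul_one, ← Nat.card_eq_fintype_card]
    ring
  · have h1 : (fixSet (α := α) (1 : G)) = univ := by ext x; simp [mem_fixSet]
    have h2 : (swapSet (α := α) (1 : G)) = ∅ := by ext x; simp [mem_swapSet]
    simp only [chiC, h1, h2, card_univ, card_empty, Nat.cast_zero, sub_zero]
    rw [show ((Fintype.card α : ℂ) ^ 2 - 3 * Fintype.card α + 2) / 2 =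
      ((((Fintype.card α : ℝ) ^ 2 - 3 * Fintype.card α + 2) / 2 : ℝ) : ℂ) by push_cast; rfl,
      Complex.ofReal_re]
    have : (4 : ℝ) ≤ Fintype.card α := by exact_mod_cast hn
    nlinarith

end Irr

end Cfsg.Agent.BlocksChars.AltVanish
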