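import Mathlib

/-!
# Moments of fixed points and two-cycles in four-transitive groups
-/

set_option autoImplicit false
set_option linter.style.haveILetI false

namespace Cfsg.Agent.BlocksChars.AltVanish

open MulAction Finset

universe u v

variable {G : Type u} [Group G] {α : Type v} [MulAction G α] [Fintype α] [DecidableEq α]

/-- Fixed points. -/
def fixSet (g : G) : Finset α := univ.filter fun x => g • x = x

/-- Points in two-cycles. -/
def swapSet (g : G) : Finset α := univ.filter fun x => g • g • x = x ∧ g • x ≠ x

theorem mem_fixSet {g : G} {x : α} : x ∈ fixSet g ↔ g • x = x := by simp [fixSet]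

theorem mem_swapSet {g : G} {x : α} : x ∈ swapSet g ↔ g • g • x = x ∧ g • x ≠ x := by
  simp [swapSet]

theorem smul_mem_swapSet {g : G} {x : α} (h : x ∈ swapSet g) : g • x ∈ swapSet g := by
  rw [mem_swapSet] at h ⊢
  exact ⟨by rw [h.1], fun e => h.2 (by rw [h.1] at e; exact e.symm)⟩

omit [Fintype α] [DecidableEq α] in
theorem inj_three {a b c : α} (h1 : a ≠ b) (h2 : a ≠ c) (h3 : b ≠ c) :
    Function.Injective ![a, b, c] := by
  intro i j h
  fin_cases i <;> fin_cases j <;>
    first
      | rfl
      | exact absurd h h1
      | exact absurd h h2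
      | exact absurd h h3
      | exact absurd h.symm h1
      | exact absurd h.symm h2
      | exact absurd h.symm h3

omit [Fintype α] [DecidableEq α] in
theorem inj_four {a b c d : α} (h1 : a ≠ b) (h2 : a ≠ c) (h3 : a ≠ d) (h4 : b ≠ c) (h5 : b ≠ d)
    (h6 : c ≠ d) : Function.Injective ![a, b, c, d] := by
  intro i j h
  fin_cases i <;> fin_cases j <;>
    first
      | rfl
      | exact absurd h h1
      | exact absurd h h2
      | exact absurd h h3
      | exact absurd h h4
      | exact absurd h h5
      | exact absurd h h6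
      | exact absurd h.symm h1
      | exact absurd h.symm h2
      | exact absurd h.symm h3
      | exact absurd h.symm h4
      | exact absurd h.symm h5
      | exact absurd h.symm h6

/-- Tuples on which `g` acts like `σ`. -/
def tuples {k : ℕ} (σ : Equiv.Perm (Fin k)) (g : G) : Type v :=
  {v : Fin k ↪ α // ∀ i, g • v i = v (σ i)}

instance {k : ℕ} (σ : Equiv.Perm (Fin k)) (g : G) : Finite (tuples (α := α) σ g) :=
  inferInstanceAs (Finite {v : Fin k ↪ α // ∀ i, g • v i = v (σ i)})

variable [Fintype G]

/-- On a `k`-transitive group each pattern occurs once on average. -/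
theorem sum_tuples {k : ℕ} (hk : IsMultiplyPretransitive G α k) (hkn : k ≤ Fintype.card α)
    (σ : Equiv.Perm (Fin k)) :
    ∑ g : G, Nat.card (tuples (α := α) σ g) = Nat.card G := by
  classical
  haveI : IsPretransitive G (Fin k ↪ α) := hk
  haveI : Nonempty (Fin k ↪ α) := Function.Embedding.nonempty_of_card_le (by simpa using hkn)
  have h1 : ∑ g : G, Nat.card (tuples (α := α) σ g) =
      Nat.card (Σ v : Fin k ↪ α, {g : G // g • v = σ.toEmbedding.trans v}) := by
    rw [← Nat.card_sigma]
    refine Nat.card_congr
      { toFun := fun p => ⟨p.2.1, p.1, Function.Embedding.ext fun i => p.2.2 i⟩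
        invFun := fun p => ⟨p.2.1, p.1, fun i => DFunLike.congr_fun p.2.2 i⟩
        left_inv := fun p => rfl
        right_inv := fun p => rfl }
  have h2 : ∀ v : Fin k ↪ α,
      Nat.card {g : G // g • v = σ.toEmbedding.trans v} = Nat.card (stabilizer G v) := by
    intro v
    obtain ⟨g0, hg0⟩ := exists_smul_eq G v (σ.toEmbedding.trans v)
    exact Nat.card_congr
      { toFun := fun g => ⟨g0⁻¹ * g.1, by
          rw [mem_stabilizer_iff, mul_smul, g.2, ← hg0, inv_smul_smul]⟩
        invFun := fun g => ⟨g0 * g.1, by rw [mul_smul, mem_stabilizer_iff.1 g.2, hg0]⟩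
        left_inv := fun g => by simp
        right_inv := fun g => by simp }
  obtain ⟨v0⟩ := ‹Nonempty (Fin k ↪ α)›
  have h3 : ∀ v : Fin k ↪ α,
      Nat.card {g : G // g • v = σ.toEmbedding.trans v} = Nat.card (stabilizer G v0) := by
    intro v
    rw [h2]
    have e1 := (stabilizer G v).index_mul_card
    rw [← (stabilizer G v0).index_mul_card, index_stabilizer_of_transitive,
      index_stabilizer_of_transitive] at e1
    exact Nat.eq_of_mul_eq_mul_left Nat.card_pos e1
  rw [h1, Nat.card_sigma, Finset.sum_congr rfl fun v _ => h3 v, Finset.sum_const, Finset.card_univ,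
    smul_eq_mul, ← (stabilizer G v0).index_mul_card, index_stabilizer_of_transitive,
    ← Nat.card_eq_fintype_card]

theorem card_tuples_one (k : ℕ) (g : G) :
    Nat.card (tuples (α := α) (1 : Equiv.Perm (Fin k)) g) =
      (fixSet (α := α) g).card.descFactorial k := by
  have e : tuples (α := α) (1 : Equiv.Perm (Fin k)) g ≃ (Fin k ↪ fixSet (α := α) g) :=
    { toFun := fun v => ⟨fun i => ⟨v.1 i, mem_fixSet.2 (v.2 i)⟩,
        fun i j h => v.1.injective (congrArg Subtype.val h)⟩
      invFun := fun v => ⟨⟨fun i => (v i : α), fun i j h => v.injective (Subtype.ext h)⟩,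
        fun i => mem_fixSet.1 (v i).2⟩
      left_inv := fun v => rfl
      right_inv := fun v => rfl }
  rw [Nat.card_congr e, Nat.card_eq_fintype_card, Fintype.card_embedding_eq, Fintype.card_fin,
    Fintype.card_coe]

theorem card_tuples_swap (g : G) :
    Nat.card (tuples (α := α) (Equiv.swap (0 : Fin 2) 1) g) = (swapSet (α := α) g).card := by
  have e : tuples (α := α) (Equiv.swap (0 : Fin 2) 1) g ≃ swapSet (α := α) g :=
    { toFun := fun v => ⟨v.1 0, mem_swapSet.2 ⟨by
          have h0 := v.2 0
          have h1 := v.2 1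
          simp at h0 h1
          rw [h0, h1], fun h => by
          have h0 := v.2 0
          simp at h0
          rw [h0] at h
          simpa using v.1.injective h⟩⟩
      invFun := fun x => ⟨⟨![x.1, g • x.1], fun i j h => by
          have h2 := (mem_swapSet.1 x.2).2
          fin_cases i <;> fin_cases j <;> simp_all [eq_comm]⟩, fun i => by
          have h2 := (mem_swapSet.1 x.2).1
          fin_cases i <;> first | exact rfl | exact h2⟩
      left_inv := fun v => Subtype.ext (Function.Embedding.ext fun i => by
        have h0 := v.2 0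
        fin_cases i <;> first | exact rfl | exact h0)
      right_inv := fun x => rfl }
  rw [Nat.card_congr e, Nat.card_eq_fintype_card, Fintype.card_coe]

theorem card_tuples_swap_fix (g : G) :
    Nat.card (tuples (α := α) (Equiv.swap (0 : Fin 3) 1) g) =
      (swapSet (α := α) g).card * (fixSet (α := α) g).card := by
  have e : tuples (α := α) (Equiv.swap (0 : Fin 3) 1) g ≃
      swapSet (α := α) g × fixSet (α := α) g :=
    { toFun := fun v => (⟨v.1 0, mem_swapSet.2 ⟨by
          have h0 := v.2 0
          have h1 := v.2 1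
          simp at h0 h1
          rw [h0, h1], fun h => by
          have h0 := v.2 0
          simp at h0
          rw [h0] at h
          simpa using v.1.injective h⟩⟩, ⟨v.1 2, mem_fixSet.2 (by
          have h2 := v.2 2
          rwa [Equiv.swap_apply_of_ne_of_ne (by decide) (by decide)] at h2)⟩)
      invFun := fun x => ⟨⟨![x.1.1, g • x.1.1, x.2.1], by
          have h1 := mem_swapSet.1 x.1.2
          have h2 := mem_fixSet.1 x.2.2
          have h3 : x.2.1 ≠ x.1.1 := fun e => h1.2 (e ▸ h2)
          have h4 : x.2.1 ≠ g • x.1.1 := fun e => by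
            rw [e, h1.1] at h2
            exact h1.2 h2.symm
          exact inj_three h1.2.symm h3.symm h4.symm⟩, fun i => by
          have h1 := (mem_swapSet.1 x.1.2).1
          have h2 := mem_fixSet.1 x.2.2
          fin_cases i <;> first | exact rfl | exact h1 | exact h2 | exact h2 0 | exact h2 1⟩
      left_inv := fun v => Subtype.ext (Function.Embedding.ext fun i => by
        have h0 := v.2 0
        fin_cases i <;> first | exact rfl | exact h0)
      right_inv := fun x => rfl }
  rw [Nat.card_congr e, Nat.card_prod, Nat.card_eq_fintype_card, Fintype.card_coe,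
    Nat.card_eq_fintype_card, Fintype.card_coe]

theorem card_tuples_swap_fix_fix (g : G) :
    Nat.card (tuples (α := α) (Equiv.swap (0 : Fin 4) 1) g) =
      (swapSet (α := α) g).card * (fixSet (α := α) g).card.descFactorial 2 := by
  have e : tuples (α := α) (Equiv.swap (0 : Fin 4) 1) g ≃
      swapSet (α := α) g × (Fin 2 ↪ fixSet (α := α) g) :=
    { toFun := fun v => (⟨v.1 0, mem_swapSet.2 ⟨by
          have h0 := v.2 0
          have h1 := v.2 1
          simp at h0 h1
          rw [h0, h1], fun h => by
          have h0 := v.2 0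
          simp at h0
          rw [h0] at h
          simpa using v.1.injective h⟩⟩,
        ⟨![⟨v.1 2, mem_fixSet.2 (by
            have h2 := v.2 2
            rwa [Equiv.swap_apply_of_ne_of_ne (by decide) (by decide)] at h2)⟩,
          ⟨v.1 3, mem_fixSet.2 (by
            have h2 := v.2 3
            rwa [Equiv.swap_apply_of_ne_of_ne (by decide) (by decide)] at h2)⟩],
          fun i j h => by fin_cases i <;> fin_cases j <;> simp_all [Subtype.ext_iff]⟩)
      invFun := fun x => ⟨⟨![x.1.1, g • x.1.1, (x.2 0).1, (x.2 1).1], by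
          have h1 := mem_swapSet.1 x.1.2
          have h2 := fun l => mem_fixSet.1 (x.2 l).2
          have h3 : ∀ l, (x.2 l).1 ≠ x.1.1 := fun l e => h1.2 (e ▸ h2 l)
          have h4 : ∀ l, (x.2 l).1 ≠ g • x.1.1 := fun l e => by
            have h5 := h2 l
            rw [e, h1.1] at h5
            exact h1.2 h5.symm
          have h6 : (x.2 0).1 ≠ (x.2 1).1 := fun e => by
            simpa using x.2.injective (Subtype.ext e)
          exact inj_four h1.2.symm (h3 0).symm (h3 1).symm (h4 0).symm (h4 1).symm h6⟩, fun i => by
          have h1 := (mem_swapSet.1 x.1.2).1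
          have h2 := fun l => mem_fixSet.1 (x.2 l).2
          fin_cases i <;> first | exact rfl | exact h1 | exact h2 | exact h2 0 | exact h2 1⟩
      left_inv := fun v => Subtype.ext (Function.Embedding.ext fun i => by
        have h0 := v.2 0
        fin_cases i <;> first | exact rfl | exact h0)
      right_inv := fun x => Prod.ext rfl (Function.Embedding.ext fun i => by
        fin_cases i <;> rfl) }
  rw [Nat.card_congr e, Nat.card_prod, Nat.card_eq_fintype_card, Fintype.card_coe,
    Nat.card_eq_fintype_card, Fintype.card_embedding_eq, Fintype.card_coe, Fintype.card_fin]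

theorem card_tuples_swap_swap (g : G) :
    Nat.card (tuples (α := α) (Equiv.swap (0 : Fin 4) 1 * Equiv.swap 2 3) g) +
        2 * (swapSet (α := α) g).card = (swapSet (α := α) g).card ^ 2 := by
  set U := swapSet (α := α) g with hU
  have e : tuples (α := α) (Equiv.swap (0 : Fin 4) 1 * Equiv.swap 2 3) g ≃
      Σ x : U, (U \ {x.1, g • x.1} : Finset α) :=
    { toFun := fun v => ⟨⟨v.1 0, mem_swapSet.2 ⟨by
          have h0 := v.2 0
          have h1 := v.2 1
          simp [Equiv.swap_apply_def] at h0 h1
          rw [h0, h1], fun h => by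
          have h0 := v.2 0
          simp [Equiv.swap_apply_def] at h0
          rw [h0] at h
          simpa using v.1.injective h⟩⟩, ⟨v.1 2, by
          have h0 := v.2 0
          have h2 := v.2 2
          have h3 := v.2 3
          simp [Equiv.swap_apply_def] at h0 h2 h3
          simp only [mem_sdiff, mem_insert, mem_singleton, not_or, hU, mem_swapSet]
          refine ⟨⟨by rw [h2, h3], fun h => ?_⟩, fun h => ?_, fun h => ?_⟩
          · rw [h2] at h
            simpa using v.1.injective h
          · simpa using v.1.injective h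
          · rw [h0] at h
            simpa using v.1.injective h⟩⟩
      invFun := fun x => ⟨⟨![x.1.1, g • x.1.1, x.2.1, g • x.2.1], by
          have h1 := mem_swapSet.1 x.1.2
          have hy := x.2.2
          simp only [mem_sdiff, mem_insert, mem_singleton, not_or, hU, mem_swapSet] at hy
          obtain ⟨⟨hy1, hy2⟩, hy3, hy4⟩ := hy
          have h5 : g • x.2.1 ≠ x.1.1 := fun e => hy4 (hy1.symm.trans (congrArg (g • ·) e))
          have h6 : g • x.2.1 ≠ g • x.1.1 := fun e => hy3 (MulAction.injective g e)
          exact inj_four h1.2.symm (Ne.symm hy3) h5.symm (Ne.symm hy4) h6.symm hy2.symm⟩, fun i => by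
          have h1 := (mem_swapSet.1 x.1.2).1
          have hy := x.2.2
          simp only [mem_sdiff, hU, mem_swapSet] at hy
          fin_cases i <;> first | exact rfl | exact h1 | exact hy.1.1⟩
      left_inv := fun v => Subtype.ext (Function.Embedding.ext fun i => by
        have h0 := v.2 0
        have h2 := v.2 2
        fin_cases i <;> first | exact rfl | exact h0 | exact h2)
      right_inv := fun x => rfl }
  rw [Nat.card_congr e, Nat.card_sigma]
  simp only [Nat.card_eq_fintype_card, Fintype.card_coe]
  have h2 : ∀ x : U, (U \ {x.1, g • x.1}).card + 2 = U.card := fun x => by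
    have hsub : ({x.1, g • x.1} : Finset α) ⊆ U := by
      intro y hy
      simp only [mem_insert, mem_singleton] at hy
      rcases hy with rfl | rfl
      · exact x.2
      · exact smul_mem_swapSet x.2
    have h3 := card_sdiff_add_card_eq_card hsub
    rwa [card_pair (Ne.symm (mem_swapSet.1 x.2).2)] at h3
  calc ∑ x : U, (U \ {x.1, g • x.1}).card + 2 * U.card
      = ∑ x : U, ((U \ {x.1, g • x.1}).card + 2) := by
        rw [sum_add_distrib, sum_const, card_univ, Fintype.card_coe, smul_eq_mul, mul_comm]
    _ = U.card ^ 2 := by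
        rw [sum_congr rfl fun x _ => h2 x, sum_const, card_univ, Fintype.card_coe, smul_eq_mul, sq]

section

variable (h4 : IsMultiplyPretransitive G α 4) (hn : 4 ≤ Fintype.card α)
include h4 hn

theorem sum_tuples' {k : ℕ} (hk : k ≤ 4) (σ : Equiv.Perm (Fin k)) :
    ∑ g : G, (Nat.card (tuples (α := α) σ g) : ℂ) = (Nat.card G : ℂ) := by
  haveI := h4
  have hk' : IsMultiplyPretransitive G α k := isMultiplyPretransitive_of_le (n := 4) hk
    (by rw [Nat.card_eq_fintype_card]; exact hn)
  exact_mod_cast sum_tuples hk' (hk.trans hn) σ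

/-- The nine moments used below, with `f` fixed points and `u` points in two-cycles. -/
theorem moments :
    let f : G → ℂ := fun g => ((fixSet (α := α) g).card : ℂ)
    let t : G → ℂ := fun g => ((swapSet (α := α) g).card : ℂ)
    ∑ g, f g = Nat.card G ∧ ∑ g, f g ^ 2 = 2 * Nat.card G ∧ ∑ g, f g ^ 3 = 5 * Nat.card G ∧
      ∑ g, f g ^ 4 = 15 * Nat.card G ∧ ∑ g, t g = Nat.card G ∧ ∑ g, t g * f g = Nat.card G ∧
      ∑ g, t g * f g ^ 2 = 2 * Nat.card G ∧ ∑ g, t g ^ 2 = 3 * Nat.card G := by
  intro f t
  have c2 : ∀ m : ℕ, (m.descFactorial 2 : ℂ) = (m : ℂ) * (m - 1) := fun m => by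
    rcases m with - | - | m <;> simp [Nat.descFactorial]; ring
  have c3 : ∀ m : ℕ, (m.descFactorial 3 : ℂ) = (m : ℂ) * (m - 1) * (m - 2) := fun m => by
    rcases m with - | - | - | m <;> simp [Nat.descFactorial]; ring
  have c4 : ∀ m : ℕ, (m.descFactorial 4 : ℂ) = (m : ℂ) * (m - 1) * (m - 2) * (m - 3) := fun m => by
    rcases m with - | - | - | - | m <;> simp [Nat.descFactorial] <;> ring
  have e1 : ∑ g, f g = Nat.card G := by
    have h := sum_tuples' h4 hn (k := 1) (by norm_num) 1
    simpa [card_tuples_one, f] using h
  have e2 : ∑ g, f g * (f g - 1) = Nat.card G := by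
    have h := sum_tuples' h4 hn (k := 2) (by norm_num) 1
    simpa only [card_tuples_one, c2] using h
  have e3 : ∑ g, f g * (f g - 1) * (f g - 2) = Nat.card G := by
    have h := sum_tuples' h4 hn (k := 3) (by norm_num) 1
    simpa only [card_tuples_one, c3] using h
  have e4 : ∑ g, f g * (f g - 1) * (f g - 2) * (f g - 3) = Nat.card G := by
    have h := sum_tuples' h4 hn (k := 4) le_rfl 1
    simpa only [card_tuples_one, c4] using h
  have u0 : ∑ g, t g = Nat.card G := by
    have h := sum_tuples' h4 hn (k := 2) (by norm_num) (Equiv.swap 0 1)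
    simpa only [card_tuples_swap] using h
  have u1 : ∑ g, t g * f g = Nat.card G := by
    have h := sum_tuples' h4 hn (k := 3) (by norm_num) (Equiv.swap 0 1)
    simpa only [card_tuples_swap_fix, Nat.cast_mul] using h
  have u2 : ∑ g, t g * (f g * (f g - 1)) = Nat.card G := by
    have h := sum_tuples' h4 hn (k := 4) le_rfl (Equiv.swap 0 1)
    simpa only [card_tuples_swap_fix_fix, Nat.cast_mul, c2] using h
  have uu : ∑ g, t g ^ 2 = Nat.card G + 2 * Nat.card G := by
    have h := sum_tuples' h4 hn (k := 4) le_rfl (Equiv.swap 0 1 * Equiv.swap 2 3)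
    calc ∑ g, t g ^ 2 = ∑ g, ((Nat.card (tuples (α := α)
          (Equiv.swap (0 : Fin 4) 1 * Equiv.swap 2 3) g) : ℂ) + 2 * t g) := by
          refine sum_congr rfl fun g _ => ?_
          have := card_tuples_swap_swap (α := α) g
          show ((swapSet (α := α) g).card : ℂ) ^ 2 = _ + 2 * ((swapSet (α := α) g).card : ℂ)
          exact_mod_cast this.symm
      _ = _ := by rw [sum_add_distrib, h, ← mul_sum, u0]
  have s2 : ∑ g, f g ^ 2 = 2 * Nat.card G := by
    rw [sum_congr rfl (g := fun g => f g * (f g - 1) + f g) fun g _ => by ring, sum_add_distrib,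
      e2, e1]
    ring
  have s3 : ∑ g, f g ^ 3 = 5 * Nat.card G := by
    rw [sum_congr rfl (g := fun g => f g * (f g - 1) * (f g - 2) + 3 * (f g * (f g - 1)) + f g)
      fun g _ => by ring, sum_add_distrib, sum_add_distrib, ← mul_sum, e3, e2, e1]
    ring
  have s4 : ∑ g, f g ^ 4 = 15 * Nat.card G := by
    rw [sum_congr rfl (g := fun g => f g * (f g - 1) * (f g - 2) * (f g - 3) +
      6 * (f g * (f g - 1) * (f g - 2)) + 7 * (f g * (f g - 1)) + f g) fun g _ => by ring,
      sum_add_distrib, sum_add_distrib, sum_add_distrib, ← mul_sum, ← mul_sum, e4, e3, e2, e1]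
    ring
  have v2 : ∑ g, t g * f g ^ 2 = 2 * Nat.card G := by
    rw [sum_congr rfl (g := fun g => t g * (f g * (f g - 1)) + t g * f g) fun g _ => by ring,
      sum_add_distrib, u2, u1]
    ring
  exact ⟨e1, s2, s3, s4, u0, u1, v2, by rw [uu]; ring⟩

end

end Cfsg.Agent.BlocksChars.AltVanish
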